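import Mathlib
import Cfsg.Prelude.Def_SporCoxeter

/-!
# The group presented on the diagram Y532 with the spider relation, and its sub-diagrams (helper28; generated)

`G0` has a centre `a` and arms `b1 c1 d1 e1 f1`, `b2 c2 d2`, `b3 c3`; the relators are the Coxeter relators and
the spider relator `(a b1 c1 a b2 c2 a b3 c3)^10`.
-/

set_option autoImplicit false

namespace Cfsg.Agent.Helper28.Y5

namespace G0

/-- the generators -/
inductive Gen
  | a
  | b1
  | c1
  | d1
  | e1
  | f1
  | b2
  | c2
  | d2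
  | b3
  | c3
  deriving DecidableEq

/-- a generator as a word -/
abbrev a : FreeGroup Gen := FreeGroup.of Gen.a
/-- a generator as a word -/
abbrev b1 : FreeGroup Gen := FreeGroup.of Gen.b1
/-- a generator as a word -/
abbrev c1 : FreeGroup Gen := FreeGroup.of Gen.c1
/-- a generator as a word -/
abbrev d1 : FreeGroup Gen := FreeGroup.of Gen.d1
/-- a generator as a word -/
abbrev e1 : FreeGroup Gen := FreeGroup.of Gen.e1
/-- a generator as a word -/
abbrev f1 : FreeGroup Gen := FreeGroup.of Gen.f1
/-- a generator as a word -/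
abbrev b2 : FreeGroup Gen := FreeGroup.of Gen.b2
/-- a generator as a word -/
abbrev c2 : FreeGroup Gen := FreeGroup.of Gen.c2
/-- a generator as a word -/
abbrev d2 : FreeGroup Gen := FreeGroup.of Gen.d2
/-- a generator as a word -/
abbrev b3 : FreeGroup Gen := FreeGroup.of Gen.b3
/-- a generator as a word -/
abbrev c3 : FreeGroup Gen := FreeGroup.of Gen.c3

/-- the Coxeter graph -/
def edges : List (Gen × ℕ × Gen) :=
  [(.a, 3, .b1), (.a, 3, .b2), (.a, 3, .b3), (.b1, 3, .c1), (.c1, 3, .d1), (.d1, 3, .e1), (.e1, 3, .f1), (.b2, 3, .c2), (.c2, 3, .d2), (.b3, 3, .c3)]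

/-- the further relators -/
def extra : List (FreeGroup Gen) := [(a * b1 * c1 * a * b2 * c2 * a * b3 * c3) ^ 10]

end G0

/-- the group presented on the diagram Y532 with the spider relation -/
abbrev G0 : Type := Cfsg.Spor.CoxPresented G0.Gen G0.edges G0.extra

namespace D0

/-- the generators -/
inductive Gen
  | a
  | b1
  | c1
  | d1
  | e1
  | b2
  | c2
  | d2
  | b3
  | c3
  deriving DecidableEq

/-- a generator as a word -/
abbrev a : FreeGroup Gen := FreeGroup.of Gen.a
/-- a generator as a word -/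
abbrev b1 : FreeGroup Gen := FreeGroup.of Gen.b1
/-- a generator as a word -/
abbrev c1 : FreeGroup Gen := FreeGroup.of Gen.c1
/-- a generator as a word -/
abbrev d1 : FreeGroup Gen := FreeGroup.of Gen.d1
/-- a generator as a word -/
abbrev e1 : FreeGroup Gen := FreeGroup.of Gen.e1
/-- a generator as a word -/
abbrev b2 : FreeGroup Gen := FreeGroup.of Gen.b2
/-- a generator as a word -/
abbrev c2 : FreeGroup Gen := FreeGroup.of Gen.c2
/-- a generator as a word -/
abbrev d2 : FreeGroup Gen := FreeGroup.of Gen.d2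
/-- a generator as a word -/
abbrev b3 : FreeGroup Gen := FreeGroup.of Gen.b3
/-- a generator as a word -/
abbrev c3 : FreeGroup Gen := FreeGroup.of Gen.c3

/-- the Coxeter graph -/
def edges : List (Gen × ℕ × Gen) :=
  [(.a, 3, .b1), (.a, 3, .b2), (.a, 3, .b3), (.b1, 3, .c1), (.c1, 3, .d1), (.d1, 3, .e1), (.b2, 3, .c2), (.c2, 3, .d2), (.b3, 3, .c3)]

/-- the further relators -/
def extra : List (FreeGroup Gen) := [(a * b1 * c1 * a * b2 * c2 * a * b3 * c3) ^ 10]

/-- the inclusion of the generators -/
def inc : Gen → G0.Gen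
  | .a => .a
  | .b1 => .b1
  | .c1 => .c1
  | .d1 => .d1
  | .e1 => .e1
  | .b2 => .b2
  | .c2 => .c2
  | .d2 => .d2
  | .b3 => .b3
  | .c3 => .c3

end D0

namespace D1

/-- the generators -/
inductive Gen
  | a
  | b1
  | c1
  | d1
  | b2
  | c2
  | d2
  | b3
  | c3
  deriving DecidableEq

/-- a generator as a word -/
abbrev a : FreeGroup Gen := FreeGroup.of Gen.a
/-- a generator as a word -/
abbrev b1 : FreeGroup Gen := FreeGroup.of Gen.b1
/-- a generator as a word -/
abbrev c1 : FreeGroup Gen := FreeGroup.of Gen.c1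
/-- a generator as a word -/
abbrev d1 : FreeGroup Gen := FreeGroup.of Gen.d1
/-- a generator as a word -/
abbrev b2 : FreeGroup Gen := FreeGroup.of Gen.b2
/-- a generator as a word -/
abbrev c2 : FreeGroup Gen := FreeGroup.of Gen.c2
/-- a generator as a word -/
abbrev d2 : FreeGroup Gen := FreeGroup.of Gen.d2
/-- a generator as a word -/
abbrev b3 : FreeGroup Gen := FreeGroup.of Gen.b3
/-- a generator as a word -/
abbrev c3 : FreeGroup Gen := FreeGroup.of Gen.c3

/-- the Coxeter graph -/
def edges : List (Gen × ℕ × Gen) :=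
  [(.a, 3, .b1), (.a, 3, .b2), (.a, 3, .b3), (.b1, 3, .c1), (.c1, 3, .d1), (.b2, 3, .c2), (.c2, 3, .d2), (.b3, 3, .c3)]

/-- the further relators -/
def extra : List (FreeGroup Gen) := [(a * b1 * c1 * a * b2 * c2 * a * b3 * c3) ^ 10]

/-- the inclusion of the generators -/
def inc : Gen → G0.Gen
  | .a => .a
  | .b1 => .b1
  | .c1 => .c1
  | .d1 => .d1
  | .b2 => .b2
  | .c2 => .c2
  | .d2 => .d2
  | .b3 => .b3
  | .c3 => .c3

end D1

namespace D2

/-- the generators -/
inductive Gen
  | a
  | b1
  | c1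
  | d1
  | b2
  | c2
  | b3
  | c3
  deriving DecidableEq

/-- a generator as a word -/
abbrev a : FreeGroup Gen := FreeGroup.of Gen.a
/-- a generator as a word -/
abbrev b1 : FreeGroup Gen := FreeGroup.of Gen.b1
/-- a generator as a word -/
abbrev c1 : FreeGroup Gen := FreeGroup.of Gen.c1
/-- a generator as a word -/
abbrev d1 : FreeGroup Gen := FreeGroup.of Gen.d1
/-- a generator as a word -/
abbrev b2 : FreeGroup Gen := FreeGroup.of Gen.b2
/-- a generator as a word -/
abbrev c2 : FreeGroup Gen := FreeGroup.of Gen.c2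
/-- a generator as a word -/
abbrev b3 : FreeGroup Gen := FreeGroup.of Gen.b3
/-- a generator as a word -/
abbrev c3 : FreeGroup Gen := FreeGroup.of Gen.c3

/-- the Coxeter graph -/
def edges : List (Gen × ℕ × Gen) :=
  [(.a, 3, .b1), (.a, 3, .b2), (.a, 3, .b3), (.b1, 3, .c1), (.c1, 3, .d1), (.b2, 3, .c2), (.b3, 3, .c3)]

/-- the further relators -/
def extra : List (FreeGroup Gen) := [(a * b1 * c1 * a * b2 * c2 * a * b3 * c3) ^ 10]

/-- the inclusion of the generators -/
def inc : Gen → G0.Gen
  | .a => .a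
  | .b1 => .b1
  | .c1 => .c1
  | .d1 => .d1
  | .b2 => .b2
  | .c2 => .c2
  | .b3 => .b3
  | .c3 => .c3

end D2

namespace D3

/-- the generators -/
inductive Gen
  | a
  | b1
  | c1
  | b2
  | c2
  | b3
  | c3
  deriving DecidableEq

/-- a generator as a word -/
abbrev a : FreeGroup Gen := FreeGroup.of Gen.a
/-- a generator as a word -/
abbrev b1 : FreeGroup Gen := FreeGroup.of Gen.b1
/-- a generator as a word -/
abbrev c1 : FreeGroup Gen := FreeGroup.of Gen.c1
/-- a generator as a word -/
abbrev b2 : FreeGroup Gen := FreeGroup.of Gen.b2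
/-- a generator as a word -/
abbrev c2 : FreeGroup Gen := FreeGroup.of Gen.c2
/-- a generator as a word -/
abbrev b3 : FreeGroup Gen := FreeGroup.of Gen.b3
/-- a generator as a word -/
abbrev c3 : FreeGroup Gen := FreeGroup.of Gen.c3

/-- the Coxeter graph -/
def edges : List (Gen × ℕ × Gen) :=
  [(.a, 3, .b1), (.a, 3, .b2), (.a, 3, .b3), (.b1, 3, .c1), (.b2, 3, .c2), (.b3, 3, .c3)]

/-- the further relators -/
def extra : List (FreeGroup Gen) := [(a * b1 * c1 * a * b2 * c2 * a * b3 * c3) ^ 10]

/-- the inclusion of the generators -/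
def inc : Gen → G0.Gen
  | .a => .a
  | .b1 => .b1
  | .c1 => .c1
  | .b2 => .b2
  | .c2 => .c2
  | .b3 => .b3
  | .c3 => .c3

end D3

namespace D4

/-- the generators -/
inductive Gen
  | a
  | b1
  | c1
  | b2
  | c2
  | b3
  deriving DecidableEq

/-- a generator as a word -/
abbrev a : FreeGroup Gen := FreeGroup.of Gen.a
/-- a generator as a word -/
abbrev b1 : FreeGroup Gen := FreeGroup.of Gen.b1
/-- a generator as a word -/
abbrev c1 : FreeGroup Gen := FreeGroup.of Gen.c1
/-- a generator as a word -/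
abbrev b2 : FreeGroup Gen := FreeGroup.of Gen.b2
/-- a generator as a word -/
abbrev c2 : FreeGroup Gen := FreeGroup.of Gen.c2
/-- a generator as a word -/
abbrev b3 : FreeGroup Gen := FreeGroup.of Gen.b3

/-- the Coxeter graph -/
def edges : List (Gen × ℕ × Gen) :=
  [(.a, 3, .b1), (.a, 3, .b2), (.a, 3, .b3), (.b1, 3, .c1), (.b2, 3, .c2)]

/-- the further relators -/
def extra : List (FreeGroup Gen) := []

/-- the inclusion of the generators -/
def inc : Gen → G0.Gen
  | .a => .a
  | .b1 => .b1
  | .c1 => .c1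
  | .b2 => .b2
  | .c2 => .c2
  | .b3 => .b3

end D4

namespace D5

/-- the generators -/
inductive Gen
  | a
  | b1
  | c1
  | b2
  | b3
  deriving DecidableEq

/-- a generator as a word -/
abbrev a : FreeGroup Gen := FreeGroup.of Gen.a
/-- a generator as a word -/
abbrev b1 : FreeGroup Gen := FreeGroup.of Gen.b1
/-- a generator as a word -/
abbrev c1 : FreeGroup Gen := FreeGroup.of Gen.c1
/-- a generator as a word -/
abbrev b2 : FreeGroup Gen := FreeGroup.of Gen.b2
/-- a generator as a word -/
abbrev b3 : FreeGroup Gen := FreeGroup.of Gen.b3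

/-- the Coxeter graph -/
def edges : List (Gen × ℕ × Gen) :=
  [(.a, 3, .b1), (.a, 3, .b2), (.a, 3, .b3), (.b1, 3, .c1)]

/-- the further relators -/
def extra : List (FreeGroup Gen) := []

/-- the inclusion of the generators -/
def inc : Gen → G0.Gen
  | .a => .a
  | .b1 => .b1
  | .c1 => .c1
  | .b2 => .b2
  | .b3 => .b3

end D5

namespace D6

/-- the generators -/
inductive Gen
  | a
  | b1
  | c1
  | b2
  deriving DecidableEq

/-- a generator as a word -/
abbrev a : FreeGroup Gen := FreeGroup.of Gen.a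
/-- a generator as a word -/
abbrev b1 : FreeGroup Gen := FreeGroup.of Gen.b1
/-- a generator as a word -/
abbrev c1 : FreeGroup Gen := FreeGroup.of Gen.c1
/-- a generator as a word -/
abbrev b2 : FreeGroup Gen := FreeGroup.of Gen.b2

/-- the Coxeter graph -/
def edges : List (Gen × ℕ × Gen) :=
  [(.a, 3, .b1), (.a, 3, .b2), (.b1, 3, .c1)]

/-- the further relators -/
def extra : List (FreeGroup Gen) := []

/-- the inclusion of the generators -/
def inc : Gen → G0.Gen
  | .a => .a
  | .b1 => .b1
  | .c1 => .c1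
  | .b2 => .b2

end D6

end Cfsg.Agent.Helper28.Y5
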